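import Mathlib
import Cfsg.Prelude.Def_Blocks
import Cfsg.Prelude.Def_Transfer
import Cfsg.Prelude.Def_Classification2
import Cfsg.Prelude.Def_LieTypeChar

/-!
# S4829 : the interface (helper770; the criterion is helper125's)

`Cyc p χ` : `χ` is fixed by the Galois automorphisms which fix the `p`-th roots of unity.
`WitA p M S A Ψ` : the witness on a group `A` of automorphisms of the simple group `S`.
`RowA p S` : the row for `p` (odd).   `Row2 S` : the row for `p = 2`.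
-/

set_option autoImplicit false

open Subgroup

namespace Cfsg.Agent.H770.CY

open Cfsg

universe u

/-- `p`-cyclotomic valued, the form of the statement S4829 -/
def Cyc (p : ℕ) {G : Type u} [Group G] (χ : G → ℂ) : Prop :=
  ∀ k : ℕ, Nat.Coprime k (Nat.card G) → k ≡ 1 [MOD p] → ∀ g : G, χ (g ^ k) = χ g

/-- what the reduction knows about `A = N_G(S₁) / C_G(S₁)`: it contains the inner automorphisms and `A / Inn S` has
a normal `p`-complement `X / Inn S` -/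
def Amb (p : ℕ) (S : Type u) [Group S] (A : Subgroup (MulAut S)) : Prop :=
  (∀ s : S, MulAut.conj s ∈ A) ∧ ∃ X : Subgroup (MulAut S), X ≤ A ∧ (∀ s : S, MulAut.conj s ∈ X) ∧
    (∀ a ∈ A, ∀ x ∈ X, a * x * a⁻¹ ∈ X) ∧ ¬ p ∣ (MulAut.conj : S →* MulAut S).range.relIndex X ∧
    ∃ k : ℕ, X.relIndex A = p ^ k

/-- the restriction to `S` of a function on `A` -/
noncomputable def res {S : Type u} [Group S] {A : Subgroup (MulAut S)} (hA : ∀ s : S, MulAut.conj s ∈ A)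
    (Ψ : A → ℂ) : S → ℂ := fun s => Ψ ⟨MulAut.conj s, hA s⟩

/-- multiplicity of `θ` in `ψ` -/
noncomputable def mul {G : Type u} [Group G] [Fintype G] (ψ θ : G → ℂ) : ℂ :=
  (Nat.card G : ℂ)⁻¹ * ∑ g : G, ψ g * (starRingEnd ℂ) (θ g)

/-- **the witness on `A`**: a character `Ψ` of `A` with values in `ℚ(ζ_p)`, of degree prime to `p`, whose restriction
to `S` is multiplicity free, all constituents nontrivial and `ℚ(ζ_p)`-valued, and with `Ψ a ≡ Ψ 1` for every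
`p`-regular `a ∈ A` which centralizes a Sylow `p`-subgroup of `S` -/
structure WitA (p : ℕ) (M : Ideal AlgInt) (S : Type u) [Group S] [Fintype S] (A : Subgroup (MulAut S))
    (hA : ∀ s : S, MulAut.conj s ∈ A) (Ψ : A → ℂ) : Prop where
  char : IsCharacter A Ψ
  cyc : Cyc p Ψ
  deg : ∃ n : ℕ, Ψ 1 = n ∧ ¬ p ∣ n
  mf : ∀ θ : IrrCharacter S, mul (res hA Ψ) (θ : S → ℂ) = 0 ∨
    (mul (res hA Ψ) (θ : S → ℂ) = 1 ∧ (θ : S → ℂ) ≠ (fun _ => 1) ∧ Cyc p (θ : S → ℂ))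
  loc : ∀ a : A, ¬ p ∣ orderOf a → (∃ Q : Sylow p S, ∀ x ∈ Q, (a : MulAut S) x = x) → MemLocalIdeal M (Ψ a - Ψ 1)

/-- **the row** -/
def RowA (p : ℕ) (S : Type u) [Group S] [Fintype S] : Prop :=
  ∀ (A : Subgroup (MulAut S)) (hA : Amb p S A) (M : Ideal AlgInt), IsPModular p M → ∃ Ψ : A → ℂ, WitA p M S A hA.1 Ψ

/-- **the row for `p = 2`**: a nontrivial rational valued character of odd degree fixed by a given `2`-group of
automorphisms -/
def Row2 (S : Type u) [Group S] : Prop :=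
  ∀ B : Subgroup (MulAut S), IsPGroup 2 B → ∃ θ : IrrCharacter S, (θ : S → ℂ) ≠ (fun _ => 1) ∧
    Odd (charDegree (θ : S → ℂ)) ∧ Cyc 2 (θ : S → ℂ) ∧ ∀ b ∈ B, ∀ x : S, (θ : S → ℂ) (b x) = (θ : S → ℂ) x

/-- the row for all nonabelian simple groups `X` of order divisible by `p` with the property `C` -/
def RowForA (p : ℕ) (C : ∀ (X : Type) [Group X], Prop) : Prop :=
  ∀ (X : Type) [Group X] [Fintype X] [IsSimpleGroup X], ¬ IsMulCommutative X → p ∣ Nat.card X → C X → RowA p X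

/-- the row for `p = 2` for a family -/
def RowFor2 (C : ∀ (X : Type) [Group X], Prop) : Prop :=
  ∀ (X : Type) [Group X] [Finite X] [IsSimpleGroup X], ¬ IsMulCommutative X → C X → Row2 X

/-- **the rows for `p` odd** -/
structure RowsA (p : ℕ) : Prop where
  alt : RowForA p (fun X _ => IsAlternating X)
  lie : RowForA p (fun X _ => IsLieTypeChar p X)
  psl : RowForA p (fun X _ => ∃ (F : Type) (_ : Field F) (_ : Fintype F) (n : ℕ), (p : F) ≠ 0 ∧ 2 ≤ n ∧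
    Nonempty (X ≃* Matrix.ProjectiveSpecialLinearGroup (Fin n) F))
  psp : RowForA p (fun X _ => ∃ (F : Type) (_ : Field F) (_ : Fintype F) (m : ℕ), (p : F) ≠ 0 ∧ 2 ≤ m ∧
    Nonempty (X ≃* PSp m F))
  psu : RowForA p (fun X _ => ∃ (F : Type) (_ : Field F) (_ : Fintype F) (n q : ℕ), (p : F) ≠ 0 ∧
    Fintype.card F = q ^ 2 ∧ 3 ≤ n ∧ Nonempty (X ≃* PSU n F q))
  oodd : RowForA p (fun X _ => ∃ (F : Type) (_ : Field F) (_ : Fintype F) (m : ℕ), (p : F) ≠ 0 ∧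
    3 ≤ m ∧ Odd (Fintype.card F) ∧ Nonempty (X ≃* POmega F (quadFormOdd m F)))
  oplus : RowForA p (fun X _ => ∃ (F : Type) (_ : Field F) (_ : Fintype F) (m : ℕ), (p : F) ≠ 0 ∧
    4 ≤ m ∧ Nonempty (X ≃* POmega F (quadFormPlus m F)))
  ominus : RowForA p (fun X _ => ∃ (F : Type) (_ : Field F) (_ : Fintype F) (m : ℕ) (a b : F), (p : F) ≠ 0 ∧
    4 ≤ m ∧ (∀ z₁ z₂ : F, z₁ ^ 2 + a * z₁ * z₂ + b * z₂ ^ 2 = 0 → z₁ = 0 ∧ z₂ = 0) ∧
    Nonempty (X ≃* POmega F (quadFormMinus (m - 1) F a b)))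
  g2 : RowForA p (fun X _ => ∃ (F : Type) (_ : Field F) (_ : Fintype F), (p : F) ≠ 0 ∧ 3 ≤ Fintype.card F ∧
    Nonempty (X ≃* Lie.chevG2.group F))
  f4 : RowForA p (fun X _ => ∃ (F : Type) (_ : Field F) (_ : Fintype F), (p : F) ≠ 0 ∧ Nonempty (X ≃* Lie.chevF4.group F))
  e6 : RowForA p (fun X _ => ∃ (F : Type) (_ : Field F) (_ : Fintype F), (p : F) ≠ 0 ∧ Nonempty (X ≃* Lie.chevE6.group F))
  e7 : RowForA p (fun X _ => ∃ (F : Type) (_ : Field F) (_ : Fintype F), (p : F) ≠ 0 ∧ Nonempty (X ≃* Lie.chevE7.group F))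
  e8 : RowForA p (fun X _ => ∃ (F : Type) (_ : Field F) (_ : Fintype F), (p : F) ≠ 0 ∧ Nonempty (X ≃* Lie.chevE8.group F))
  te6 : RowForA p (fun X _ => ∃ (K : Type) (_ : Field K) (_ : Fintype K) (q : ℕ), (p : K) ≠ 0 ∧ IsPrimePow q ∧
    Fintype.card K = q ^ 2 ∧ Nonempty (X ≃* Lie.twistedE6 K q))
  td4 : RowForA p (fun X _ => ∃ (K : Type) (_ : Field K) (_ : Fintype K) (q : ℕ), (p : K) ≠ 0 ∧ IsPrimePow q ∧
    Fintype.card K = q ^ 3 ∧ Nonempty (X ≃* Lie.twistedD4 K q))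
  sz : RowForA p (fun X _ => Lie.IsoSuzuki X)
  ree : p ≠ 3 → RowForA p (fun X _ => Lie.IsoRee X)
  tf4 : RowForA p (fun X _ => Lie.Iso2F4 X)
  tits : RowForA p (fun X _ => Lie.IsoTits X)
  spor : RowForA p (fun X _ => IsSporadicGroup X)

end Cfsg.Agent.H770.CY
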